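import Groth.Agent.TraceGRLib.Push
import Groth.Agent.CohBCLib.LocFreeSec
import Groth.Agent.DCohRestrLib.MV
import Groth.Agent.S1766
import Mathlib

/-!
# Grauert–Riemenschneider vanishing and the trace for modifications of normal surface singularities
-/

set_option autoImplicit false
set_option linter.style.haveILetI false
set_option linter.unusedSectionVars false
set_option backward.isDefEq.respectTransparency false
set_option backward.isDefEq.respectTransparency.types false
set_option maxHeartbeats 2000000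
set_option synthInstance.maxHeartbeats 200000

universe u

open CategoryTheory CategoryTheory.Limits CategoryTheory.Pretriangulated AlgebraicGeometry IsLocalRing DerivedCategory
open Groth.Agent Groth.Agent.Dual3Lib
open DTenLib.Point (hH sg)

attribute [local instance] HasDerivedCategory.standard

noncomputable section

namespace TraceGRLib

variable {A : Type u} [CommRing A] [IsDomain A] [IsLocalRing A] [IsNoetherianRing A] [IsIntegrallyClosed A]
  [PreservesFiniteLimits (tilde.functor (CommRingCat.of A))]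
  {ωA : Type u} [AddCommGroup ωA] [Module A ωA] (hω : Dual.IsDualizing A (Dual.inD A ωA))
  (hdim : ringKrullDim A = 2)
  {X : Scheme.{u}} [X.Over (Spec (CommRingCat.of A))] [DCoh.HasRpush (X ↘ Spec (CommRingCat.of A))]
  (hf : ModTorsLib.IsModif X (X ↘ Spec (CommRingCat.of A)))
  (h : DCoh.RpushPreservesQCoh (X ↘ Spec (CommRingCat.of A))) [DCoh.HasShriek (X ↘ Spec (CommRingCat.of A)) h]
  (W : DCoh.DQCoh (Spec (CommRingCat.of A)))
  (eW : W.obj ≅ (DCoh.tildeD (CommRingCat.of A)).obj (Dual.inD A ωA))

include hdim hf in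
theorem isFiniteLength_homology (D : PushData (A := A) (X := X)) : IsFiniteLength A ((hH A 1).obj D.N) := by
  obtain ⟨e⟩ := D.h1
  exact (isFiniteLength_H1 hf hdim).of_injective (f := e.toLinearMap) e.injective

include hω hdim hf eW in
/-- **Grauert–Riemenschneider vanishing.** -/
theorem gr_vanishing : Subsingleton (Coh.HH X (DCoh.dualizingMod (X ↘ Spec (CommRingCat.of A)) h W 0) 1) := by
  obtain ⟨D⟩ := exists_pushData hf hdim h
  obtain ⟨b, δ, hT⟩ := exists_triangle D.N D.a D.isZero D.isIso₀
  exact subsingleton_H1_dualizing hω hf hdim h W eW D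
    (subsingleton_hom_shift hω hdim hT (isFiniteLength_homology hdim hf D) D.socle)

include hdim hf eW in
/-- The trace is invertible on cohomology in degree zero when `H¹` vanishes. -/
theorem isIso_homology_trace (h1 : Subsingleton (Coh.HH X (Coh.structureModule X) 1)) :
    IsIso ((homologyFunctor (Spec (CommRingCat.of A)).Modules 0).map
      ((ObjectProperty.ι DCoh.IsQCohD).map ((DCoh.trace (X ↘ Spec (CommRingCat.of A)) h).app W))) := by
  obtain ⟨D⟩ := exists_pushData hf hdim h
  obtain ⟨b, δ, hT⟩ := exists_triangle D.N D.a D.isZero D.isIso₀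
  obtain ⟨e⟩ := D.h1
  haveI : Subsingleton ((hH A 1).obj D.N) := e.injective.subsingleton
  haveI : IsIso D.a := isIso_of_subsingleton hT
  have hb := bijective_comp_trace h W eW D
  let G := (DCoh.Rpush (X ↘ Spec (CommRingCat.of A))).obj ((DCoh.shriek (X ↘ Spec (CommRingCat.of A)) h).obj W).obj
  have hG : DCoh.IsQCohD G := h _ ((DCoh.shriek (X ↘ Spec (CommRingCat.of A)) h).obj W).property
  let tr : G ⟶ W.obj := ((DCoh.trace (X ↘ Spec (CommRingCat.of A)) h).app W).hom
  haveI : Coh.IsQCoh ((homologyFunctor (Spec (CommRingCat.of A)).Modules 0).obj G) := hG 0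
  haveI : Coh.IsQCoh ((homologyFunctor (Spec (CommRingCat.of A)).Modules 0).obj W.obj) := W.property 0
  show IsIso ((homologyFunctor (Spec (CommRingCat.of A)).Modules 0).map tr)
  refine CohBCLib.isIso_of_bijective_top _ ?_
  refine (Function.Bijective.of_comp_iff _ (bijective_gam hG)).1 ?_
  have : ((homologyFunctor (Spec (CommRingCat.of A)).Modules 0).map tr).app ⊤ ∘ gam G =
      gam W.obj ∘ fun g => g ≫ tr := funext fun g => (gam_comp g tr).symm
  rw [this]
  exact (bijective_gam W.property).comp hb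

include hω hdim hf eW in
/-- A scalar killing the cokernel of the trace kills `H¹` of the structure sheaf. -/
theorem smul_H1_eq_zero (d : A)
    (htr : ∀ s : ((homologyFunctor (Spec (CommRingCat.of A)).Modules 0).obj W.obj).val.obj (Opposite.op ⊤),
      ∃ t, (((homologyFunctor (Spec (CommRingCat.of A)).Modules 0).map
          ((ObjectProperty.ι DCoh.IsQCohD).map ((DCoh.trace (X ↘ Spec (CommRingCat.of A)) h).app W))).val.app
            (Opposite.op ⊤)) t = ((Scheme.ΓSpecIso (CommRingCat.of A)).inv.hom d) • s)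
    (x : Coh.HH X (Coh.structureModule X) 1) : d • x = 0 := by
  obtain ⟨D⟩ := exists_pushData hf hdim h
  obtain ⟨b, δ, hT⟩ := exists_triangle D.N D.a D.isZero D.isIso₀
  obtain ⟨e⟩ := D.h1
  obtain ⟨hfull, hfaith, -⟩ := Groth.Agent.S0997.result (CommRingCat.of A)
  haveI := hfull; haveI := hfaith
  let T := DCoh.tildeD (CommRingCat.of A)
  let G := (DCoh.Rpush (X ↘ Spec (CommRingCat.of A))).obj ((DCoh.shriek (X ↘ Spec (CommRingCat.of A)) h).obj W).obj
  have hG : DCoh.IsQCohD G := h _ ((DCoh.shriek (X ↘ Spec (CommRingCat.of A)) h).obj W).property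
  let tr : G ⟶ W.obj := ((DCoh.trace (X ↘ Spec (CommRingCat.of A)) h).app W).hom
  have hd : ∀ s : Dual.inD A A ⟶ Dual.inD A ωA, ∃ t : D.N ⟶ Dual.inD A ωA, D.a ≫ t = d • s := by
    intro s
    let gs : uO (Spec (CommRingCat.of A)) ⟶ W.obj := inDSpecIso.inv ≫ T.map s ≫ eW.inv
    obtain ⟨t', ht'⟩ := htr (gam W.obj gs)
    obtain ⟨gt, hgt⟩ := (bijective_gam hG).2 t'
    have h1 : gt ≫ tr = sO d ≫ gs := (bijective_gam W.property).1 (by
      rw [gam_comp, hgt, gam_smul]
      exact ht')
    obtain ⟨t, ht⟩ := exists_of_trace h W eW D gt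
    refine ⟨t, T.map_injective ?_⟩
    have h2 : d • s = (singleFunctor (ModuleCat.{u} A) 0).map (ModuleCat.ofHom (d • LinearMap.id : A →ₗ[A] A)) ≫ s := by
      rw [show ModuleCat.ofHom (d • LinearMap.id : A →ₗ[A] A) = d • 𝟙 (ModuleCat.of A A) from rfl, Functor.map_smul,
        CategoryTheory.Functor.map_id, Linear.smul_comp, Category.id_comp]
    have h3 : sO d ≫ inDSpecIso.inv = inDSpecIso.inv ≫ T.map ((singleFunctor (ModuleCat.{u} A) 0).map
        (ModuleCat.ofHom (d • LinearMap.id : A →ₗ[A] A))) := by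
      rw [Iso.eq_inv_comp, ← Category.assoc, Iso.comp_inv_eq]
      exact (inDSpecIso_smul d).symm
    have h4 : inDSpecIso.inv ≫ T.map (D.a ≫ t) ≫ eW.inv = inDSpecIso.inv ≫ T.map (d • s) ≫ eW.inv := by
      rw [h2, Functor.map_comp T ((singleFunctor (ModuleCat.{u} A) 0).map _) s, Category.assoc, ← reassoc_of% h3]
      exact ht.symm.trans h1
    exact (cancel_mono eW.inv).1 ((cancel_epi (inDSpecIso (A := A)).inv).1 h4)
  apply e.symm.injective
  rw [map_smul, map_zero]
  exact smul_eq_zero_of_image hω hdim hT (isFiniteLength_homology hdim hf D) D.socle d hd (e.symm x)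

end TraceGRLib

namespace TraceGRLib

open ModTorsLib

/-- An annihilator of all the cokernels of the trace bounds `H¹` of all modifications. -/
theorem exists_length_bound (A : Type u) [CommRing A] [IsDomain A] [IsLocalRing A] [IsNoetherianRing A]
    [IsIntegrallyClosed A] (hN : CAlg.IsNagata A) (hdim : ringKrullDim A = 2)
    (ωA : Type u) [AddCommGroup ωA] [Module A ωA] (hω : Dual.IsDualizing A (Dual.inD A ωA))
    [PreservesFiniteLimits (tilde.functor (CommRingCat.of A))] (d : A) (hd : d ≠ 0)
    (htr : ∀ (X : Scheme.{u}) (f : X ⟶ Spec (CommRingCat.of A)) [IsProper f] [IsIntegral X], Pi1.IsNormalScheme X →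
      (∃ U : (Spec (CommRingCat.of A)).Opens, (U : Set (Spec (CommRingCat.of A))).Nonempty ∧ IsIso (f ∣_ U)) →
      ∀ [DCoh.HasRpush f] (h : DCoh.RpushPreservesQCoh f) [DCoh.HasShriek f h]
        (WA : DCoh.DQCoh (Spec (CommRingCat.of A))),
        Nonempty (WA.obj ≅ (DCoh.tildeD (CommRingCat.of A)).obj (Dual.inD A ωA)) →
        ∀ s : ((DerivedCategory.homologyFunctor (Spec (CommRingCat.of A)).Modules 0).obj WA.obj).val.obj (Opposite.op ⊤),
          ∃ t, (((DerivedCategory.homologyFunctor (Spec (CommRingCat.of A)).Modules 0).map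
              ((ObjectProperty.ι DCoh.IsQCohD).map ((DCoh.trace f h).app WA))).val.app (Opposite.op ⊤)) t =
            ((Scheme.ΓSpecIso (CommRingCat.of A)).inv.hom d) • s) :
    ∃ N : ℕ, ∀ (X : Scheme.{u}) [X.Over (Spec (CommRingCat.of A))], IsModif X (X ↘ Spec (CommRingCat.of A)) →
      Module.length A (Coh.HH X (Coh.structureModule X) 1) ≤ (N : ℕ∞) := by
  obtain ⟨N, hN'⟩ := ModTorsLib.exists_bound A hN hdim d hd
  refine ⟨N, fun X _ hf => ?_⟩
  haveI := hf.proper; haveI := hf.integral
  let f := X ↘ Spec (CommRingCat.of A)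
  haveI : CompactSpace X := QuasiCompact.compactSpace_of_compactSpace f
  haveI : QuasiSeparatedSpace X := quasiSeparatedSpace_of_quasiSeparated f
  haveI : DCoh.HasRpush f := DCohRestrLib.hasRpush f
  have h : DCoh.RpushPreservesQCoh f := fun K hK => QRlimLib.isQCohD_rpush f hK
  haveI := Groth.Agent.S1766.result X (Spec (CommRingCat.of A)) f h
  let W : DCoh.DQCoh (Spec (CommRingCat.of A)) := ⟨(DCoh.tildeD (CommRingCat.of A)).obj (Dual.inD A ωA),
    ((Groth.Agent.S0997.result (CommRingCat.of A)).2.2 _).2 ⟨_, ⟨Iso.refl _⟩⟩⟩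
  have hkill := fun x => smul_H1_eq_zero hω hdim hf h W (Iso.refl _) d
    (htr X f hf.normal hf.birat h W ⟨Iso.refl _⟩) x
  refine le_trans (le_of_eq (LinearEquiv.length_eq ?_)) (hN' X hf)
  exact LinearEquiv.symm (LinearEquiv.ofTop _ (eq_top_iff.2 fun x _ =>
    (Submodule.mem_torsionBy_iff d x).2 (hkill x)))

end TraceGRLib
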