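import Groth.Agent.TraceGRLib.ExtDim2
import Groth.Agent.DerLib.Devissage
import Groth.Agent.DerLib.Ghost
import Mathlib

/-!
# Classes of degree two of a module of finite length, and vanishing in the derived category of a ring
-/

set_option autoImplicit false
set_option linter.style.haveILetI false
set_option linter.unusedSectionVars false
set_option backward.isDefEq.respectTransparency false
set_option backward.isDefEq.respectTransparency.types false
set_option maxHeartbeats 1000000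

universe u

open CategoryTheory CategoryTheory.Limits CategoryTheory.Pretriangulated IsLocalRing
open Groth.Agent Groth.Agent.DualCxLib
open DTenLib.Point (hH sg)

attribute [local instance] HasDerivedCategory.standard

noncomputable section

namespace TraceGRLib

variable {A : Type u} [CommRing A]

/-- An object with cohomology in degrees `0` and `1` is an extension. -/
theorem exists_triangle (N : Dual.D A) (a : Dual.inD A A ⟶ N)
    (hN : ∀ i : ℤ, i < 0 ∨ 1 < i → IsZero ((hH A i).obj N)) (ha : IsIso ((hH A 0).map a)) :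
    ∃ (b : N ⟶ (sg ((hH A 1).obj N) 0)⟦(-1 : ℤ)⟧)
      (δ : (sg ((hH A 1).obj N) 0)⟦(-1 : ℤ)⟧ ⟶ (Dual.inD A A)⟦(1 : ℤ)⟧),
      Triangle.mk a b δ ∈ distTriang (Dual.D A) := by
  let t := DerivedCategory.TStructure.t (C := ModuleCat.{u} A)
  haveI : N.IsGE 0 := (DerivedCategory.isGE_iff _ _).2 fun i hi => hN i (Or.inl hi)
  haveI : N.IsLE 1 := (DerivedCategory.isLE_iff _ _).2 fun i hi => hN i (Or.inr hi)
  let T := (t.triangleLTGE 1).obj N
  have hT : T ∈ distTriang _ := t.triangleLTGE_distinguished 1 N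
  haveI h3 : T.obj₃.IsGE 1 := inferInstanceAs (t.IsGE _ 1)
  have hge1 : ∀ i : ℤ, i < 1 → IsZero ((hH A i).obj T.obj₃) := fun i hi =>
    DerivedCategory.isZero_of_isGE _ 1 i hi
  haveI : T.obj₃.IsLE 1 := (DerivedCategory.isLE_iff _ _).2 fun i hi => by
    haveI := DerLib.Ghost.isIso_homologyMap_truncGEπ N 1 i hi.le
    exact (hN i (Or.inr hi)).of_iso (asIso ((hH A i).map ((t.truncGEπ 1).app N))).symm
  haveI : (Dual.inD A A).IsLE 0 := inferInstanceAs ((sg (ModuleCat.of A A) 0).IsLE 0)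
  obtain ⟨a', ha'⟩ := Triangle.coyoneda_exact₂ _ hT a
    (t.zero (a ≫ T.mor₂ : Dual.inD A A ⟶ T.obj₃) 0 1 (by norm_num))
  haveI : IsIso a' := by
    rw [DerivedCategory.isIso_iff]
    intro i
    haveI : IsIso ((hH A 0).map T.mor₁) := DerLib.Ghost.isIso_homologyMap_truncLTι N 1 0 (by norm_num)
    rcases eq_or_ne i 0 with rfl | hi
    · rw [ha', Functor.map_comp] at ha
      exact IsIso.of_isIso_comp_right _ ((hH A 0).map T.mor₁)
    · refine IsZero.isIso ?_ ?_ _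
      · haveI : (Dual.inD A A).IsGE 0 := inferInstanceAs ((sg (ModuleCat.of A A) 0).IsGE 0)
        rcases lt_or_gt_of_ne hi with h | h
        · exact DerivedCategory.isZero_of_isGE _ 0 i h
        · exact DerivedCategory.isZero_of_isLE _ 0 i h
      · rcases lt_or_gt_of_ne hi with h | h
        · haveI := DerLib.Ghost.isIso_homologyMap_truncLTι N 1 i (by omega)
          exact (hN i (Or.inl h)).of_iso (asIso ((hH A i).map ((t.truncLTι 1).app N)))
        · haveI : T.obj₁.IsLE 0 := t.isLE_truncLT_obj N 1 0 (by norm_num)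
          exact DerivedCategory.isZero_of_isLE _ 0 i h
  obtain ⟨e₃⟩ := DerLib.Devissage.nonempty_iso_single T.obj₃ 1
  haveI : IsIso ((hH A 1).map T.mor₂) := DerLib.Ghost.isIso_homologyMap_truncGEπ N 1 1 le_rfl
  let e : T.obj₃ ≅ (sg ((hH A 1).obj N) 0)⟦(-1 : ℤ)⟧ :=
    e₃ ≪≫ (DerivedCategory.singleFunctor _ 1).mapIso (asIso ((hH A 1).map T.mor₂)).symm ≪≫
      (((CategoryTheory.SingleFunctors.shiftIso (DerivedCategory.singleFunctors (ModuleCat.{u} A)) (-1 : ℤ) 1 0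
        (by norm_num))).app _).symm
  refine ⟨T.mor₂ ≫ e.hom, e.inv ≫ T.mor₃ ≫ (inv a')⟦(1 : ℤ)⟧', ?_⟩
  refine isomorphic_distinguished _ hT _ ?_
  refine Triangle.isoMk _ _ (asIso a') (Iso.refl _) e.symm ?_ ?_ ?_
  · exact (Category.comp_id a).trans ha'
  · show (T.mor₂ ≫ e.hom) ≫ e.inv = 𝟙 _ ≫ T.mor₂
    rw [Category.assoc, e.hom_inv_id, Category.comp_id, Category.id_comp]
  · show (e.inv ≫ T.mor₃ ≫ (inv a')⟦(1 : ℤ)⟧') ≫ a'⟦(1 : ℤ)⟧' = e.inv ≫ T.mor₃
    rw [Category.assoc, Category.assoc, ← Functor.map_comp, IsIso.inv_hom_id, CategoryTheory.Functor.map_id,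
      Category.comp_id]

variable [IsDomain A] [IsLocalRing A] [IsNoetherianRing A]
  {ωA : Type u} [AddCommGroup ωA] [Module A ωA] (hω : Dual.IsDualizing A (Dual.inD A ωA))
  (hdim : ringKrullDim A = 2)

local notation "ω" => Dual.inD A ωA

/-- Maps out of `X⟦-1⟧` into `ω⟦1⟧` are classes of degree two. -/
def ext₂Equiv (M : ModuleCat.{u} A) : ((sg M 0)⟦(-1 : ℤ)⟧ ⟶ (ω)⟦(1 : ℤ)⟧) ≃ₗ[A] Ext (ω) M 2 :=
  (shiftL (sg M 0) ((ω)⟦(1 : ℤ)⟧) 1).trans (postcompL _ (shift₂ (ω) 1 1 2 (by norm_num)))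

theorem ext₂Equiv_natural {M M' : ModuleCat.{u} A} (φ : M ⟶ M') (η : (sg M' 0)⟦(-1 : ℤ)⟧ ⟶ (ω)⟦(1 : ℤ)⟧) :
    ext₂Equiv M (((DerivedCategory.singleFunctor (ModuleCat.{u} A) 0).map φ)⟦(-1 : ℤ)⟧' ≫ η) =
      extMap (ω) φ 2 (ext₂Equiv M' η) := by
  let c := shiftFunctorCompIsoId (Dual.D A) (-1 : ℤ) 1 (neg_add_cancel 1)
  let F := DerivedCategory.singleFunctor (ModuleCat.{u} A) 0
  have hc := c.inv.naturality (F.map φ)
  simp only [Functor.id_map, Functor.comp_map] at hc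
  have e : ∀ (P : ModuleCat.{u} A) (ξ : (sg P 0)⟦(-1 : ℤ)⟧ ⟶ (ω)⟦(1 : ℤ)⟧),
      ext₂Equiv P ξ = c.inv.app (sg P 0) ≫ ξ⟦(1 : ℤ)⟧' ≫ (shift₂ (ω) 1 1 2 (by norm_num)).hom := fun P ξ => by
    simp [ext₂Equiv, shiftL, precompL, postcompL, c, Linear.homCongr_apply]
  rw [e, e, Functor.map_comp]
  show _ = F.map φ ≫ _
  simp only [Category.assoc]
  rw [reassoc_of% hc]

theorem zero_of_smul {P X : Dual.D A} {r : A} (h : r • 𝟙 P = 0) (f : P ⟶ X) : r • f = 0 := by
  rw [← Category.id_comp f, ← Linear.smul_comp, h, zero_comp]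

theorem smul_id_sg_eq_zero {M : ModuleCat.{u} A} {r : A} (h : ∀ v : M, r • v = 0) :
    r • 𝟙 ((sg M 0)⟦(-1 : ℤ)⟧) = 0 := by
  rw [← CategoryTheory.Functor.map_id, ← Functor.map_smul, ← CategoryTheory.Functor.map_id,
    ← Functor.map_smul, show r • 𝟙 M = 0 from ModuleCat.hom_ext (LinearMap.ext h)]
  simp

variable {N : Dual.D A} {M : ModuleCat.{u} A} {a : Dual.inD A A ⟶ N} {b : N ⟶ (sg M 0)⟦(-1 : ℤ)⟧}
  {δ : (sg M 0)⟦(-1 : ℤ)⟧ ⟶ (Dual.inD A A)⟦(1 : ℤ)⟧} (hT : Triangle.mk a b δ ∈ distTriang (Dual.D A))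
  (hM : IsFiniteLength A M) (hs : Subsingleton ((Dual.inD A (ResidueField A))⟦(-1 : ℤ)⟧ ⟶ N))

include hT hM hs in
theorem socle_nondegenerate (e : ModuleCat.of A (ResidueField A) ⟶ M)
    (he : ((DerivedCategory.singleFunctor (ModuleCat.{u} A) 0).map e)⟦(-1 : ℤ)⟧' ≫ δ = 0) : e = 0 := by
  obtain ⟨g, hg⟩ := Triangle.coyoneda_exact₃ _ hT
    (((DerivedCategory.singleFunctor (ModuleCat.{u} A) 0).map e)⟦(-1 : ℤ)⟧' :
      (sg (ModuleCat.of A (ResidueField A)) 0)⟦(-1 : ℤ)⟧ ⟶ (Triangle.mk a b δ).obj₃) he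
  have h0 : ((DerivedCategory.singleFunctor (ModuleCat.{u} A) 0).map e)⟦(-1 : ℤ)⟧' = 0 := by
    rw [hg, hs.elim g 0, zero_comp]
  exact (DerivedCategory.singleFunctor (ModuleCat.{u} A) 0).map_injective
    ((shiftFunctor (Dual.D A) (-1 : ℤ)).map_injective (by rw [Functor.map_zero, Functor.map_zero]; exact h0))

include hω hdim hT hM hs in
/-- Every class of degree two factors through the class of the extension. -/
theorem exists_factor (η : (sg M 0)⟦(-1 : ℤ)⟧ ⟶ (ω)⟦(1 : ℤ)⟧) :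
    ∃ g : (Dual.inD A A)⟦(1 : ℤ)⟧ ⟶ (ω)⟦(1 : ℤ)⟧, η = δ ≫ g := by
  obtain ⟨x, y, hx, hy, hxM, hyM⟩ := exists_regular_pair hω hdim hM
  let S₁ := mulSeq (ModuleCat.of A A) x
  let S₂ := mulSeq S₁.X₃ y
  have hS₁ : S₁.ShortExact := shortExact_mulSeq (isSMulRegular_of_ne_zero hx)
  have hS₂ : S₂.ShortExact := shortExact_mulSeq hy
  let T₁ := hS₁.singleTriangle
  let T₂ := hS₂.singleTriangle.invRotate
  have hT₁ : T₁ ∈ distTriang _ := hS₁.singleTriangle_distinguished
  have hT₂ : T₂ ∈ distTriang _ := inv_rot_of_distTriang _ hS₂.singleTriangle_distinguished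
  -- the class through the quotient by the regular pair
  obtain ⟨δ₁, hδ₁⟩ := Triangle.coyoneda_exact₁ T₁ hT₁ (δ : _ ⟶ T₁.obj₁⟦(1 : ℤ)⟧) (by
    show δ ≫ ((DerivedCategory.singleFunctor (ModuleCat.{u} A) 0).map (x • 𝟙 (ModuleCat.of A A)))⟦(1 : ℤ)⟧' = 0
    rw [Functor.map_smul, CategoryTheory.Functor.map_id, Functor.map_smul, CategoryTheory.Functor.map_id,
      Linear.comp_smul, Category.comp_id]
    exact zero_of_smul (smul_id_sg_eq_zero hxM) δ)
  obtain ⟨h', hh'⟩ := Triangle.coyoneda_exact₂ T₂ hT₂ (δ₁ : _ ⟶ T₂.obj₂) (by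
    show δ₁ ≫ (DerivedCategory.singleFunctor (ModuleCat.{u} A) 0).map (y • 𝟙 S₁.X₃) = 0
    rw [Functor.map_smul, CategoryTheory.Functor.map_id, Linear.comp_smul]
    erw [Category.comp_id]
    exact zero_of_smul (smul_id_sg_eq_zero hyM) δ₁)
  obtain ⟨h'', rfl⟩ := (shiftFunctor (Dual.D A) (-1 : ℤ)).map_surjective
    (X := sg M 0) (Y := sg S₂.X₃ 0) h'
  obtain ⟨h₀, rfl⟩ := (DerivedCategory.singleFunctor (ModuleCat.{u} A) 0).map_surjective h''
  have hδ : δ = (((DerivedCategory.singleFunctor (ModuleCat.{u} A) 0).map h₀)⟦(-1 : ℤ)⟧' ≫ T₂.mor₁) ≫ T₁.mor₃ := by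
    rw [← hh']
    exact hδ₁
  -- it is injective
  have hinj : Function.Injective h₀.hom := by
    rw [← LinearMap.ker_eq_bot]
    by_contra hne
    haveI := (isFiniteLength_iff_isNoetherian_isArtinian.1 hM).2
    haveI := Submodule.nontrivial_iff_ne_bot.2 hne
    obtain ⟨P, hP, -⟩ := (eq_bot_or_exists_atom_le (⊤ : Submodule A (LinearMap.ker h₀.hom))).resolve_left top_ne_bot
    haveI : IsSimpleModule A P := isSimpleModule_iff_isAtom.2 hP
    obtain ⟨J, hJ, ⟨e⟩⟩ := isSimpleModule_iff_quot_maximal.1 ‹IsSimpleModule A P›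
    obtain rfl : J = IsLocalRing.maximalIdeal A := IsLocalRing.eq_maximalIdeal hJ
    let ι : ResidueField A →ₗ[A] M := (LinearMap.ker h₀.hom).subtype.comp (P.subtype.comp e.symm.toLinearMap)
    have hι0 : ModuleCat.ofHom ι ≫ h₀ = 0 := ModuleCat.hom_ext (LinearMap.ext fun v =>
      (P.subtype (e.symm v)).2)
    have := socle_nondegenerate hT hM hs (ModuleCat.ofHom ι) (by
      rw [hδ, ← Category.assoc, ← Category.assoc, ← Functor.map_comp, ← Functor.map_comp, hι0, Functor.map_zero,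
        Functor.map_zero, zero_comp, zero_comp])
    have h1 : (P.subtype (e.symm (1 : ResidueField A))) = 0 := Subtype.ext
      (LinearMap.congr_fun (congrArg ModuleCat.Hom.hom this) (1 : ResidueField A))
    exact one_ne_zero (α := ResidueField A)
      (e.symm.map_eq_zero_iff.1 (Subtype.ext h1))
  -- extend the class
  let S₃ : ShortComplex (ModuleCat.{u} A) := ShortComplex.mk h₀ (ModuleCat.ofHom (LinearMap.range h₀.hom).mkQ)
    (ModuleCat.hom_ext (LinearMap.ext fun z => (Submodule.Quotient.mk_eq_zero _).2 ⟨z, rfl⟩))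
  have hS₃ : S₃.ShortExact :=
    { exact := (ShortComplex.moduleCat_exact_iff_range_eq_ker S₃).2 (Submodule.ker_mkQ _).symm
      mono_f := (ModuleCat.mono_iff_injective _).2 hinj
      epi_g := (ModuleCat.epi_iff_surjective _).2 (Submodule.mkQ_surjective _) }
  haveI : Module.Finite A S₃.X₃ := by
    haveI : Module.Finite A S₁.X₃ := inferInstanceAs (Module.Finite A (A ⧸ LinearMap.range _))
    haveI : Module.Finite A S₂.X₃ := inferInstanceAs (Module.Finite A (S₁.X₃ ⧸ LinearMap.range _))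
    exact inferInstanceAs (Module.Finite A (S₂.X₃ ⧸ LinearMap.range _))
  obtain ⟨η₂, hη₂⟩ := exists_extend hS₃ 2 (subsingleton_ext_gt hω hdim (M := S₃.X₃) 3 (by norm_num))
    (ext₂Equiv M η)
  let η' : (sg S₂.X₃ 0)⟦(-1 : ℤ)⟧ ⟶ (ω)⟦(1 : ℤ)⟧ := (ext₂Equiv S₂.X₃).symm η₂
  have hη : η = ((DerivedCategory.singleFunctor (ModuleCat.{u} A) 0).map h₀)⟦(-1 : ℤ)⟧' ≫ η' := by
    apply (ext₂Equiv M).injective
    rw [hη₂]
    rw [ext₂Equiv_natural, show ext₂Equiv S₂.X₃ η' = η₂ from (ext₂Equiv S₂.X₃).apply_symm_apply η₂]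
  -- factor it through the two connecting maps
  obtain ⟨η₁, hη₁⟩ := Triangle.yoneda_exact₂ T₂.invRotate (inv_rot_of_distTriang _ hT₂)
    (η' : T₂.invRotate.obj₂ ⟶ (ω)⟦(1 : ℤ)⟧) (by
      haveI : Subsingleton ((sg S₁.X₃ 0)⟦(-1 : ℤ)⟧ ⟶ (ω)⟦(1 : ℤ)⟧) :=
        (ext₂Equiv (ωA := ωA) S₁.X₃).toEquiv.subsingleton_congr.2 (subsingleton_ext_mulSeq_two hω hx)
      exact Subsingleton.elim (α := (sg S₁.X₃ 0)⟦(-1 : ℤ)⟧ ⟶ (ω)⟦(1 : ℤ)⟧) _ _)
  obtain ⟨g, hg⟩ := Triangle.yoneda_exact₃ T₁ hT₁ (η₁ : T₁.obj₃ ⟶ (ω)⟦(1 : ℤ)⟧) (by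
    haveI := subsingleton_ext_ring hω 1 (by norm_num)
    exact Subsingleton.elim (α := Ext (ω) (ModuleCat.of A A) 1) _ _)
  refine ⟨g, ?_⟩
  rw [hδ, hη, hη₁, hg]
  simp only [Category.assoc]
  rfl

include hω hdim hT hM hs in
/-- **Vanishing in degree one.** -/
theorem subsingleton_hom_shift : Subsingleton (N ⟶ (ω)⟦(1 : ℤ)⟧) := by
  refine subsingleton_of_forall_eq 0 fun φ => ?_
  haveI := subsingleton_ext_ring hω 1 (by norm_num)
  obtain ⟨η, hη⟩ := Triangle.yoneda_exact₂ _ hT (φ : (Triangle.mk a b δ).obj₂ ⟶ (ω)⟦(1 : ℤ)⟧)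
    (Subsingleton.elim (α := Ext (ω) (ModuleCat.of A A) 1) _ _)
  obtain ⟨g, hg⟩ := exists_factor hω hdim hT hM hs η
  rw [hη, hg, ← Category.assoc]
  erw [show b ≫ δ = 0 from comp_distTriang_mor_zero₂₃ _ hT]
  exact zero_comp

include hω hdim hT hM hs in
/-- A scalar killing the cokernel of the restriction map kills the module. -/
theorem smul_eq_zero_of_image (d : A) (hd : ∀ s : Dual.inD A A ⟶ ω, ∃ t : N ⟶ ω, a ≫ t = d • s) (v : M) :
    d • v = 0 := by
  have hkill : ∀ η : Ext (ω) M 2, d • η = 0 := by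
    intro η
    obtain ⟨g, hg⟩ := exists_factor hω hdim hT hM hs ((ext₂Equiv M).symm η)
    obtain ⟨s, rfl⟩ := (shiftFunctor (Dual.D A) (1 : ℤ)).map_surjective (X := Dual.inD A A) (Y := ω) g
    obtain ⟨t, ht⟩ := hd s
    apply (ext₂Equiv (ωA := ωA) M).symm.injective
    rw [map_smul, map_zero, hg, ← Linear.comp_smul, ← Functor.map_smul, ← ht, Functor.map_comp, ← Category.assoc]
    erw [show δ ≫ a⟦(1 : ℤ)⟧' = 0 from comp_distTriang_mor_zero₃₁ _ hT]
    exact zero_comp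
  let f : M →ₗ[A] M := d • LinearMap.id
  let I := LinearMap.range f
  have hI : IsFiniteLength A I := hM.of_injective (f := I.subtype) Subtype.val_injective
  have hI0 : Subsingleton I := by
    refine subsingleton_of_ext_two hω hdim hI (subsingleton_of_forall_eq 0 fun g => ?_)
    let S : ShortComplex (ModuleCat.{u} A) := ShortComplex.mk (ModuleCat.ofHom I.subtype) (ModuleCat.ofHom I.mkQ)
      (ModuleCat.hom_ext (LinearMap.ext fun z => (Submodule.Quotient.mk_eq_zero _).2 z.2))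
    have hS : S.ShortExact :=
      { exact := (ShortComplex.moduleCat_exact_iff_range_eq_ker S).2
          ((Submodule.range_subtype _).trans (Submodule.ker_mkQ _).symm)
        mono_f := (ModuleCat.mono_iff_injective _).2 Subtype.val_injective
        epi_g := (ModuleCat.epi_iff_surjective _).2 (Submodule.mkQ_surjective _) }
    haveI := (isFiniteLength_iff_isNoetherian_isArtinian.1 hM).1
    obtain ⟨g', rfl⟩ := exists_extend hS 2 (subsingleton_ext_gt hω hdim (M := M ⧸ I) 3 (by norm_num)) g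
    let S' : ShortComplex (ModuleCat.{u} A) := ShortComplex.mk (ModuleCat.ofHom (LinearMap.ker f).subtype)
      (ModuleCat.ofHom f.rangeRestrict) (ModuleCat.hom_ext (LinearMap.ext fun z => Subtype.ext z.2))
    have hS' : S'.ShortExact :=
      { exact := (ShortComplex.moduleCat_exact_iff_range_eq_ker S').2
          ((Submodule.range_subtype _).trans (LinearMap.ker_rangeRestrict f).symm)
        mono_f := (ModuleCat.mono_iff_injective _).2 Subtype.val_injective
        epi_g := (ModuleCat.epi_iff_surjective _).2 (LinearMap.surjective_rangeRestrict f) }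
    haveI h1 : Subsingleton (Ext (ω) S'.X₁ 1) := subsingleton_ext_finLen hω hdim
      (hM.of_injective (f := (LinearMap.ker f).subtype) Subtype.val_injective) 1 (by norm_num)
    have hz : extMap (ω) S'.g 2 (extMap (ω) S.f 2 g') = 0 := by
      rw [← extMap_comp]
      rw [show (ModuleCat.ofHom f.rangeRestrict ≫ ModuleCat.ofHom I.subtype : S'.X₂ ⟶ S.X₂) =
        d • 𝟙 M from ModuleCat.hom_ext (LinearMap.ext fun z => rfl), extMap_smul_id]
      exact hkill g'
    -- injectivity of the pullback along the surjection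
    obtain ⟨w, hw⟩ := Triangle.yoneda_exact₃ _ hS'.singleTriangle_distinguished
      (extMap (ω) S.f 2 g' : hS'.singleTriangle.obj₃ ⟶ (ω)⟦(2 : ℤ)⟧) hz
    haveI : Subsingleton (hS'.singleTriangle.obj₁⟦(1 : ℤ)⟧ ⟶ (ω)⟦(2 : ℤ)⟧) :=
      (shiftOneL _ (ω) 2 1 (by norm_num)).toEquiv.subsingleton_congr.2 h1
    rw [hw, Subsingleton.elim w 0]
    exact comp_zero
  exact congrArg Subtype.val (Subsingleton.elim (⟨f v, v, rfl⟩ : I) 0)

include hT in
/-- With no module the extension is trivial. -/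
theorem isIso_of_subsingleton [Subsingleton M] : IsIso a := by
  have hz : IsZero (Triangle.mk a b δ).obj₃ :=
    Functor.map_isZero _ (Functor.map_isZero _ (ModuleCat.isZero_of_subsingleton M))
  exact (Triangle.isZero₃_iff_isIso₁ _ hT).1 hz

end TraceGRLib
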