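import Groth.Agent.DualCxLib.DepthApps
import Groth.Agent.DualCxLib.Pure
import Groth.Agent.DualCxLib.FinLen
import Mathlib

/-!
# `Ext` into a dualizing module over a two-dimensional local domain
-/

set_option autoImplicit false
set_option linter.style.haveILetI false
set_option linter.unusedSectionVars false
set_option backward.isDefEq.respectTransparency false
set_option backward.isDefEq.respectTransparency.types false

universe u

open CategoryTheory CategoryTheory.Limits IsLocalRing
open Groth.Agent Groth.Agent.DualCxLib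

attribute [local instance] HasDerivedCategory.standard

noncomputable section

namespace TraceGRLib

variable {A : Type u} [CommRing A] [IsDomain A] [IsLocalRing A] [IsNoetherianRing A]
  {ωA : Type u} [AddCommGroup ωA] [Module A ωA] (hω : Dual.IsDualizing A (Dual.inD A ωA))

local notation "ω" => Dual.inD A ωA
local notation "m₀" => IsLocalRing.closedPoint A
include hω

omit hω in
theorem zeroPt_le (q : PrimeSpectrum A) : (⊥ : PrimeSpectrum A) ≤ q := bot_le

omit hω in
theorem closedPt_ge (q : PrimeSpectrum A) : q ≤ m₀ :=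
  show q.asIdeal ≤ maximalIdeal A from le_maximalIdeal q.isPrime.ne_top

theorem deg_bot : deg hω (⊥ : PrimeSpectrum A) = 0 := by
  by_contra hne
  have hnv := (not_van_iff_of_minimal (M := A) hω (⊥ : PrimeSpectrum A)
    (DualCxLib.mem_support_ring _) (fun q _ hq => le_antisymm hq (zeroPt_le q))
    (deg hω (⊥ : PrimeSpectrum A))).2 rfl
  have hz : IsZero ((DTenLib.Point.hH A (deg hω (⊥ : PrimeSpectrum A))).obj ω) := by
    rcases lt_or_gt_of_ne hne with h | h
    · exact DerivedCategory.isZero_of_isGE _ 0 _ h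
    · exact DerivedCategory.isZero_of_isLE _ 0 _ h
  haveI := ModuleCat.subsingleton_of_isZero hz
  haveI := (extHL ω (deg hω (⊥ : PrimeSpectrum A))).toEquiv.subsingleton
  exact hnv van_of_subsingleton

theorem deg_closed (hdim : ringKrullDim A = 2) : deg hω m₀ = 2 := by
  obtain ⟨l, hl0, hl1, hlen⟩ := exists_series_to hω (⊥ : PrimeSpectrum A) m₀ (zeroPt_le _)
  have hle : ((l.length : ℕ∞) : WithBot ℕ∞) ≤ 2 := hdim ▸ Order.LTSeries.length_le_krullDim l
  have hle' : l.length ≤ 2 := Nat.cast_le.1 (WithBot.coe_le_coe.1 (show ((l.length : ℕ∞) : WithBot ℕ∞) ≤ ((2 : ℕ) : ℕ∞) from hle))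
  have hge : (⊥ : PrimeSpectrum A) < m₀ ∧ ∃ p : PrimeSpectrum A, ⊥ < p ∧ p < m₀ := by
    have h2 : (2 : WithBot ℕ∞) ≤ ringKrullDim A := hdim.ge
    obtain ⟨s, hs⟩ := Order.le_krullDim_iff.1 (show ((2 : ℕ) : WithBot ℕ∞) ≤ Order.krullDim (PrimeSpectrum A) from h2)
    have h01 : s ⟨0, by omega⟩ < s ⟨1, by omega⟩ := s.strictMono (Fin.mk_lt_mk.2 (by omega))
    have h12 : s ⟨1, by omega⟩ < s ⟨2, by omega⟩ := s.strictMono (Fin.mk_lt_mk.2 (by omega))
    refine ⟨lt_of_le_of_lt (zeroPt_le _) (h01.trans_le (closedPt_ge _)), s ⟨1, by omega⟩,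
      lt_of_le_of_lt (zeroPt_le _) h01, lt_of_lt_of_le h12 (closedPt_ge _)⟩
  obtain ⟨-, p, hp0, hp1⟩ := hge
  have h0 := deg_bot hω
  have ha := deg_strictMono hω hp0
  have hb := deg_strictMono hω hp1
  omega

theorem subsingleton_ext_finLen {M : Type u} [AddCommGroup M] [Module A M] (hdim : ringKrullDim A = 2)
    (hM : IsFiniteLength A M) (i : ℤ) (hi : i ≠ 2) : Subsingleton (Ext ω (ModuleCat.of A M) i) := by
  haveI := (isFiniteLength_iff_isNoetherian_isArtinian.1 hM).1
  obtain ⟨k, hk⟩ := DualCxLib.exists_pow_kill M hM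
  have hsupp : ∀ q ∈ Module.support A M, q = m₀ := fun q hq => by
    have h1 := Module.mem_support_iff_of_finite.1 hq
    refine le_antisymm (closedPt_ge q) (show maximalIdeal A ≤ q.asIdeal from ?_)
    exact q.isPrime.le_of_pow_le (le_trans (fun c hc => Module.mem_annihilator.2 (hk c hc)) h1)
  refine (van_closedPt_iff (A := A) (V := Ext ω (ModuleCat.of A M) i)).1 ?_
  rcases lt_or_gt_of_ne hi with h | h
  · exact van_of_lt hω m₀ i fun q hq _ => by rw [hsupp q hq, deg_closed hω hdim]; exact h
  · exact van_of_gt hω m₀ i (by rw [deg_closed hω hdim]; exact h)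

theorem subsingleton_ext_gt (hdim : ringKrullDim A = 2) {M : Type u} [AddCommGroup M] [Module A M]
    [Module.Finite A M] (i : ℤ) (hi : 2 < i) : Subsingleton (Ext ω (ModuleCat.of A M) i) :=
  van_closedPt_iff.1 (van_of_gt hω m₀ i (by rw [deg_closed hω hdim]; exact hi))

theorem subsingleton_ext_ring (i : ℤ) (hi : i ≠ 0) : Subsingleton (Ext ω (ModuleCat.of A A) i) := by
  refine (extHL ω i).toEquiv.subsingleton_congr.2 (ModuleCat.subsingleton_of_isZero ?_)
  rcases lt_or_gt_of_ne hi with h | h
  · exact DerivedCategory.isZero_of_isGE _ 0 _ h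
  · exact DerivedCategory.isZero_of_isLE _ 0 _ h

theorem not_subsingleton_ext_residue (hdim : ringKrullDim A = 2) :
    ¬ Subsingleton (Ext ω (ModuleCat.of A (ResidueField A)) 2) := fun h => by
  refine (isDeg_deg hω m₀).2 ?_
  rw [deg_closed hω hdim]
  exact @van_of_subsingleton _ _ _ _ _ _ _ h

/-- `Ext²` of a finite length module does not vanish unless the module does. -/
theorem subsingleton_of_ext_two (hdim : ringKrullDim A = 2) {M : Type u} [AddCommGroup M] [Module A M]
    (hM : IsFiniteLength A M) (h2 : Subsingleton (Ext ω (ModuleCat.of A M) 2)) : Subsingleton M := by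
  by_contra hne
  haveI := not_subsingleton_iff_nontrivial.1 hne
  haveI := (isFiniteLength_iff_isNoetherian_isArtinian.1 hM).1
  obtain ⟨N, hN, -⟩ := (eq_top_or_exists_le_coatom (⊥ : Submodule A M)).resolve_left bot_ne_top
  haveI : IsSimpleModule A (M ⧸ N) := isSimpleModule_iff_isCoatom.2 hN
  obtain ⟨J, hJ, ⟨e⟩⟩ := isSimpleModule_iff_quot_maximal.1 ‹IsSimpleModule A (M ⧸ N)›
  obtain rfl : J = IsLocalRing.maximalIdeal A := IsLocalRing.eq_maximalIdeal hJ
  let q : M →ₗ[A] ResidueField A := e.toLinearMap.comp N.mkQ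
  have hq : Function.Surjective q := e.surjective.comp (Submodule.mkQ_surjective N)
  let S : ShortComplex (ModuleCat.{u} A) := ShortComplex.mk (ModuleCat.ofHom (LinearMap.ker q).subtype)
    (ModuleCat.ofHom q) (ModuleCat.hom_ext (LinearMap.ext fun x => x.2))
  have hS : S.ShortExact :=
    { exact := (ShortComplex.moduleCat_exact_iff_range_eq_ker S).2 (Submodule.range_subtype _)
      mono_f := (ModuleCat.mono_iff_injective _).2 Subtype.val_injective
      epi_g := (ModuleCat.epi_iff_surjective _).2 hq }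
  have h1 : Subsingleton (Ext ω S.X₁ 1) := subsingleton_ext_finLen hω hdim
    (hM.of_injective (f := (LinearMap.ker q).subtype) Subtype.val_injective) 1 (by norm_num)
  exact not_subsingleton_ext_residue hω hdim (subsingleton_ext₃ hS 2 1 (by norm_num) h1 h2)

/-- Nonzero elements of the ring are regular on the dualizing module. -/
theorem isSMulRegular_dualizing (hdim : ringKrullDim A = 2) {r : A} (hr : r ≠ 0) : IsSMulRegular ωA r := by
  have h0 : Subsingleton (Ext ω (ModuleCat.of A (A ⧸ Ideal.span {r})) 0) := by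
    refine subsingleton_ext_of_lt_deg hω _ 0 fun q hq => ?_
    have hrq : r ∈ q.asIdeal := by
      have h1 := Module.mem_support_iff_of_finite.1 hq
      rw [Ideal.annihilator_quotient] at h1
      exact h1 (Ideal.mem_span_singleton_self r)
    have h2 : (⊥ : PrimeSpectrum A) < q := lt_of_le_of_ne (zeroPt_le q) fun h => hr (by
      subst h
      exact hrq)
    have h3 := deg_strictMono hω h2
    rwa [deg_bot hω] at h3
  rw [isSMulRegular_iff_right_eq_zero_of_smul]
  intro x hx
  let φ : (A ⧸ Ideal.span {r}) →ₗ[A] ωA := (Ideal.span {r}).liftQ (LinearMap.toSpanSingleton A ωA x) fun a ha => by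
    obtain ⟨b, rfl⟩ := Ideal.mem_span_singleton'.1 ha
    rw [LinearMap.mem_ker, LinearMap.toSpanSingleton_apply, mul_smul, hx, smul_zero]
  let e : ω⟦(0 : ℤ)⟧ ≅ ω := (shiftFunctorZero (Dual.D A) ℤ).app ω
  have h4 : (DerivedCategory.singleFunctor (ModuleCat.{u} A) 0).map (ModuleCat.ofHom φ) ≫ e.inv =
      (0 : DTenLib.Point.sg (ModuleCat.of A (A ⧸ Ideal.span {r})) 0 ⟶ ω⟦(0 : ℤ)⟧) := h0.elim _ _
  have h5 : ModuleCat.ofHom φ = 0 := (DerivedCategory.singleFunctor (ModuleCat.{u} A) 0).map_injective (by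
    rw [Functor.map_zero, ← cancel_mono e.inv, zero_comp]
    exact h4)
  have h6 := LinearMap.congr_fun (congrArg ModuleCat.Hom.hom h5) (Submodule.Quotient.mk 1)
  exact (one_smul A x).symm.trans h6

omit hω in
theorem isSMulRegular_of_ne_zero {x : A} (hx : x ≠ 0) : IsSMulRegular (ModuleCat.of A A) x :=
  fun a b hab => mul_left_cancel₀ hx hab

theorem subsingleton_ext_mulSeq_two {x : A} (hx : x ≠ 0) :
    Subsingleton (Ext ω (mulSeq (ModuleCat.of A A) x).X₃ 2) :=
  subsingleton_ext₃ (shortExact_mulSeq (isSMulRegular_of_ne_zero hx)) 2 1 (by norm_num)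
    (subsingleton_ext_ring hω 1 (by norm_num)) (subsingleton_ext_ring hω 2 (by norm_num))

/-- No associated point of a principal quotient is the closed point. -/
theorem maximalIdeal_notMem_associated (hdim : ringKrullDim A = 2) {x : A} (hx : x ≠ 0) :
    maximalIdeal A ∉ associatedPrimes A (mulSeq (ModuleCat.of A A) x).X₃ := fun h => by
  haveI : Module.Finite A (mulSeq (ModuleCat.of A A) x).X₃ :=
    inferInstanceAs (Module.Finite A (A ⧸ LinearMap.range _))
  obtain ⟨-, v, hv⟩ := isAssociatedPrime_iff.1 h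
  let f : ResidueField A →ₗ[A] (mulSeq (ModuleCat.of A A) x).X₃ :=
    (maximalIdeal A).liftQ (LinearMap.toSpanSingleton A _ v) fun a ha => by
      rw [hv, Submodule.mem_colon_singleton, Submodule.mem_bot] at ha
      exact ha
  have hf : Function.Injective f := by
    refine LinearMap.ker_eq_bot.1 (Submodule.ker_liftQ_eq_bot _ _ _ fun a ha => ?_)
    rw [hv, Submodule.mem_colon_singleton, Submodule.mem_bot]
    exact ha
  let S : ShortComplex (ModuleCat.{u} A) := ShortComplex.mk (ModuleCat.ofHom f)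
    (ModuleCat.ofHom (LinearMap.range f).mkQ) (ModuleCat.hom_ext (LinearMap.ext fun z =>
      (Submodule.Quotient.mk_eq_zero _).2 ⟨z, rfl⟩))
  have hS : S.ShortExact :=
    { exact := (ShortComplex.moduleCat_exact_iff_range_eq_ker S).2 (Submodule.ker_mkQ _).symm
      mono_f := (ModuleCat.mono_iff_injective _).2 hf
      epi_g := (ModuleCat.epi_iff_surjective _).2 (Submodule.mkQ_surjective _) }
  exact not_subsingleton_ext_residue hω hdim (subsingleton_ext₁ hS 2
    (subsingleton_ext_mulSeq_two hω hx) (subsingleton_ext_gt hω hdim _ (by norm_num)))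

/-- A regular pair killing a module of finite length. -/
theorem exists_regular_pair (hdim : ringKrullDim A = 2) {M : Type u} [AddCommGroup M] [Module A M]
    (hM : IsFiniteLength A M) : ∃ x y : A, x ≠ 0 ∧ IsSMulRegular (mulSeq (ModuleCat.of A A) x).X₃ y ∧
      (∀ v : M, x • v = 0) ∧ ∀ v : M, y • v = 0 := by
  obtain ⟨k, hk⟩ := DualCxLib.exists_pow_kill M hM
  obtain ⟨c, hcm, hc⟩ : ∃ c ∈ maximalIdeal A, c ≠ 0 := Submodule.exists_mem_ne_zero_of_ne_bot fun h => by
    rw [ringKrullDim_eq_zero_of_isField (isField_iff_maximalIdeal_eq.2 h)] at hdim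
    exact absurd hdim (by decide)
  let x := c ^ k
  have hx : x ≠ 0 := pow_ne_zero k hc
  let Q := (mulSeq (ModuleCat.of A A) x).X₃
  haveI : Module.Finite A Q := inferInstanceAs (Module.Finite A (A ⧸ LinearMap.range _))
  have hfin := associatedPrimes.finite A Q
  have hnot : ¬ ((maximalIdeal A ^ k : Ideal A) : Set A) ⊆ ⋃ p ∈ associatedPrimes A Q, (p : Set A) := by
    intro h
    rw [show (⋃ p ∈ associatedPrimes A Q, (p : Set A)) = ⋃ p ∈ (hfin.toFinset : Set (Ideal A)), (p : Set A) by
      rw [Set.Finite.coe_toFinset]] at h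
    obtain ⟨p, hp, hpk⟩ := (Ideal.subset_union_prime ⊥ ⊥ fun p hp _ _ =>
      ((hfin.mem_toFinset).1 hp).isPrime).1 h
    have hp' := (hfin.mem_toFinset).1 hp
    haveI := hp'.isPrime
    exact maximalIdeal_notMem_associated hω hdim hx
      (le_antisymm (le_maximalIdeal hp'.isPrime.ne_top) (hp'.isPrime.le_of_pow_le hpk) ▸ hp')
  obtain ⟨y, hy, hyn⟩ := Set.not_subset.1 hnot
  refine ⟨x, y, hx, ?_, hk x (Ideal.pow_mem_pow hcm k), hk y hy⟩
  rw [isSMulRegular_iff_right_eq_zero_of_smul]
  intro v hv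
  by_contra hv0
  exact hyn ((biUnion_associatedPrimes_eq_zero_divisors A Q).symm ▸ ⟨v, hv0, hv⟩)

end TraceGRLib
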