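import Groth.Agent.Dual3Lib.EvalSpec
import Groth.Agent.DerLib.ExactHomology
import Groth.Agent.KFlatLib.PerfectPull
import Mathlib

/-!
# Global sections of the cohomology of a quasi-coherent object on an affine scheme
-/

set_option autoImplicit false
set_option linter.style.haveILetI false
set_option linter.unusedSectionVars false
set_option backward.isDefEq.respectTransparency false
set_option backward.isDefEq.respectTransparency.types false
set_option maxHeartbeats 1000000

universe u

open CategoryTheory CategoryTheory.Limits AlgebraicGeometry DerivedCategory Opposite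
open Groth.Agent Groth.Agent.Dual3Lib

attribute [local instance] HasDerivedCategory.standard

noncomputable section

namespace TraceGRLib

variable {A : Type u} [CommRing A]

local notation "SpA" => Spec (CommRingCat.of A)

/-- The unit section of the cohomology of the structure sheaf. -/
def unitSec : Γ((homologyFunctor (SpA).Modules 0).obj (DCoh.inD (SpA) (Coh.structureModule (SpA))), ⊤) :=
  ((singleFunctorCompHomologyFunctorIso (SpA).Modules 0).inv.app (Coh.structureModule (SpA))).app ⊤
    (show Γ(Coh.structureModule (SpA), ⊤) from (1 : Γ(SpA, ⊤)))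

/-- The section attached to a map out of the structure sheaf. -/
def gam (L : DCoh.D (SpA)) (g : DCoh.inD (SpA) (Coh.structureModule (SpA)) ⟶ L) :
    Γ((homologyFunctor (SpA).Modules 0).obj L, ⊤) :=
  ((homologyFunctor (SpA).Modules 0).map g).app ⊤ unitSec

theorem gam_comp {L L' : DCoh.D (SpA)} (g : DCoh.inD (SpA) (Coh.structureModule (SpA)) ⟶ L) (h : L ⟶ L') :
    gam L' (g ≫ h) = ((homologyFunctor (SpA).Modules 0).map h).app ⊤ (gam L g) := by
  rw [gam, Functor.map_comp]
  rfl

theorem gam_smul (r : A) {L : DCoh.D (SpA)} (g : DCoh.inD (SpA) (Coh.structureModule (SpA)) ⟶ L) :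
    gam L (sO r ≫ g) = ((Scheme.ΓSpecIso (CommRingCat.of A)).inv.hom r) • gam L g := by
  let c : Γ(SpA, ⊤) := (Scheme.ΓSpecIso (CommRingCat.of A)).inv.hom r
  let O := Coh.structureModule (SpA)
  let z : Γ(O, ⊤) := (1 : Γ(SpA, ⊤))
  let e := (singleFunctorCompHomologyFunctorIso (SpA).Modules 0).inv
  have h := e.naturality (sMod O c)
  have h1 : ((homologyFunctor (SpA).Modules 0).map ((singleFunctor (SpA).Modules 0).map (sMod O c))).app ⊤
      unitSec = (e.app O).app ⊤ ((sMod O c).app ⊤ z) :=
    (congrArg (fun φ => Scheme.Modules.Hom.app φ ⊤ z) h).symm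
  have h2 : (sMod O c).app ⊤ z = c • z := by
    refine Eq.trans (show (sMod O c).app ⊤ z =
      (show Γ(SpA, ⊤) from (SpA).presheaf.map (homOfLE (le_top : (⊤ : (SpA).Opens) ≤ ⊤)).op c) • z from rfl) ?_
    refine congrArg (· • z) ?_
    change (SpA).presheaf.map (𝟙 (op ⊤)) c = c
    rw [CategoryTheory.Functor.map_id]
    rfl
  rw [gam, Functor.map_comp]
  show ((homologyFunctor (SpA).Modules 0).map g).app ⊤
    (((homologyFunctor (SpA).Modules 0).map ((singleFunctor (SpA).Modules 0).map (sMod O c))).app ⊤ unitSec) = _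
  rw [h1, h2]
  show _ = c • ((homologyFunctor (SpA).Modules 0).map g).app ⊤ unitSec
  rw [← QCohLib.app_smul]
  exact congrArg (((homologyFunctor (SpA).Modules 0).map g).app ⊤) (QCohLib.app_smul (e.app O) ⊤ c z)

variable [PreservesFiniteLimits (tilde.functor (CommRingCat.of A))]

theorem bijective_gam {L : DCoh.D (SpA)} (hL : DCoh.IsQCohD L) : Function.Bijective (gam L) := by
  obtain ⟨hfull, hfaith, hq⟩ := Groth.Agent.S0997.result (CommRingCat.of A)
  obtain ⟨M, ⟨eM⟩⟩ := (hq L).1 hL
  haveI := hfull; haveI := hfaith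
  haveI : (tilde.functor (CommRingCat.of A)).Full := (tilde.fullyFaithfulFunctor (R := CommRingCat.of A)).full
  haveI : (tilde.functor (CommRingCat.of A)).Faithful :=
    (tilde.fullyFaithfulFunctor (R := CommRingCat.of A)).faithful
  let H := homologyFunctor (SpA).Modules 0
  let T := DCoh.tildeD (CommRingCat.of A)
  let O := DCoh.inD (SpA) (Coh.structureModule (SpA))
  haveI : Projective (ModuleCat.of A A) := ModuleCat.projective_of_categoryTheory_projective _
  have hev := DCompLib.bijective_evH0 (ModuleCat.of A A) M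
  let s := (singleFunctorCompHomologyFunctorIso (ModuleCat.{u} A) 0).app (ModuleCat.of A A)
  have hH : Function.Bijective (fun g : Dual.inD A A ⟶ M => (homologyFunctor (ModuleCat.{u} A) 0).map g) := by
    have : (fun g : Dual.inD A A ⟶ M => (homologyFunctor (ModuleCat.{u} A) 0).map g) =
        (fun t => s.hom ≫ t) ∘ DCompLib.evH0 (ModuleCat.of A A) M := funext fun g => by
      show (homologyFunctor (ModuleCat.{u} A) 0).map g = s.hom ≫ s.inv ≫ _
      rw [s.hom_inv_id_assoc]
    rw [this]
    exact ((s.homFromEquiv (Z := (homologyFunctor (ModuleCat.{u} A) 0).obj M)).symm.bijective).comp hev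
  let φ : T ⋙ H ≅ homologyFunctor (ModuleCat.{u} A) 0 ⋙ tilde.functor (CommRingCat.of A) :=
    DerLib.ExactHomology.homologyIso (A := ModuleCat.{u} (CommRingCat.of A)) (tilde.functor (CommRingCat.of A)) 0
  have hHT : Function.Bijective (fun g : O ⟶ L => H.map g) := by
    constructor
    · intro g g' h
      obtain ⟨a, ha⟩ := T.map_surjective (inDSpecIso.hom ≫ g ≫ eM.inv)
      obtain ⟨a', ha'⟩ := T.map_surjective (inDSpecIso.hom ≫ g' ≫ eM.inv)
      have h1 : H.map (T.map a) = H.map (T.map a') := by
        rw [ha, ha', Functor.map_comp, Functor.map_comp, Functor.map_comp, Functor.map_comp]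
        exact congrArg (fun z => H.map inDSpecIso.hom ≫ z ≫ H.map eM.inv) h
      have h2 : (homologyFunctor (ModuleCat.{u} A) 0).map a = (homologyFunctor (ModuleCat.{u} A) 0).map a' := by
        apply (tilde.functor (CommRingCat.of A)).map_injective
        rw [← cancel_epi (φ.hom.app (Dual.inD A A))]
        exact (φ.hom.naturality a).symm.trans ((congrArg (· ≫ _) h1).trans (φ.hom.naturality a'))
      have h3 := hH.1 h2
      rw [h3, ha', cancel_epi, cancel_mono] at ha
      exact ha.symm
    · intro t
      obtain ⟨b, hb⟩ := (tilde.functor (CommRingCat.of A)).map_surjective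
        (φ.inv.app (Dual.inD A A) ≫ H.map inDSpecIso.hom ≫ t ≫ H.map eM.inv ≫ φ.hom.app M)
      obtain ⟨a, ha⟩ := hH.2 b
      refine ⟨inDSpecIso.inv ≫ T.map a ≫ eM.hom, ?_⟩
      have h1 : H.map (T.map a) = H.map inDSpecIso.hom ≫ t ≫ H.map eM.inv := by
        rw [← cancel_mono (φ.hom.app M)]
        refine (φ.hom.naturality a).trans ?_
        show _ ≫ (tilde.functor (CommRingCat.of A)).map _ = _
        rw [show (homologyFunctor (ModuleCat.{u} A) 0).map a = b from ha, hb]
        simp
      show H.map _ = t
      rw [Functor.map_comp, Functor.map_comp, h1]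
      simp [← Functor.map_comp, ← Functor.map_comp_assoc]
  let e := (singleFunctorCompHomologyFunctorIso (SpA).Modules 0).app (Coh.structureModule (SpA))
  have : gam L = (fun φ' => (KFlatLib.unitSecEquiv (H.obj L)) (e.inv ≫ φ')) ∘ fun g : O ⟶ L => H.map g :=
    funext fun g => rfl
  rw [this]
  exact ((KFlatLib.unitSecEquiv (H.obj L)).bijective.comp (e.homFromEquiv (Z := H.obj L)).bijective).comp hHT

end TraceGRLib
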