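import Groth.Agent.ModTorsLib.Torsion
import Groth.Agent.RpushLib.Push
import Groth.Agent.RatModLib.Mod
import Groth.Agent.ModifLib.Join
import Groth.Agent.ParaFLib.Normal
import Groth.Agent.ParaFLib.StalkH0
import Groth.Agent.S0002
import Groth.Agent.DualCxLib.LocDuality
import Mathlib

/-!
# Higher cohomology on a modification of a normal surface is torsion
-/

set_option autoImplicit false
set_option linter.style.haveILetI false
set_option linter.unusedSectionVars false
set_option backward.isDefEq.respectTransparency false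
set_option backward.isDefEq.respectTransparency.types false
set_option maxHeartbeats 1000000

universe u

open CategoryTheory CategoryTheory.Limits AlgebraicGeometry IsLocalRing Opposite
open Groth.Agent

noncomputable section

namespace TraceGRLib

variable {A : Type u} [CommRing A] {X : Scheme.{u}} [X.Over (Spec (CommRingCat.of A))]

local notation "fX" => (X ↘ Spec (CommRingCat.of A))

/-- A power of `a` kills a higher cohomology class when the locus of `a` is affine. -/
theorem exists_pow_smul_eq_zero [QuasiCompact fX] [QuasiSeparated fX] (M : X.Modules) [Coh.IsQCoh M] (n : ℕ)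
    (a : A) (hD : IsAffineOpen (fX ⁻¹ᵁ PrimeSpectrum.basicOpen a)) (x : Coh.HH X M (n + 1)) :
    ∃ k : ℕ, a ^ k • x = 0 := by
  haveI : CompactSpace X := QuasiCompact.compactSpace_of_compactSpace fX
  haveI : QuasiSeparatedSpace X := quasiSeparatedSpace_of_quasiSeparated fX
  let F := RpushLib.FlRes.ofInjective (injectiveResolution M)
  let φ : A →+* Γ(X, ⊤) := Coh.toGlobal fX
  let D : X.Opens := X.basicOpen (φ a)
  have hDeq : D = fX ⁻¹ᵁ PrimeSpectrum.basicOpen a := by
    refine Eq.trans (Scheme.preimage_basicOpen_top fX ((Scheme.ΓSpecIso (CommRingCat.of A)).inv.hom a)).symm ?_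
    exact congrArg (fun W => fX ⁻¹ᵁ W) (AlgebraicGeometry.basicOpen_eq_of_affine (R := CommRingCat.of A) a)
  let ψ : A →+* Γ(X, D) := (X.presheaf.map (homOfLE (le_top : D ≤ ⊤)).op).hom.comp φ
  obtain ⟨-, h2⟩ := RpushLib.Hq_loc F (W := (⊤ : X.Opens)) (by simpa using isCompact_univ)
    (by simpa using (isQuasiSeparated_univ (α := X))) φ a (n + 1) (D := D) rfl le_top ψ (fun s => rfl)
  have hsub : Subsingleton (RpushLib.Hq (RpushLib.secCx D ψ F.K) (n + 1)) := by
    haveI := QCohLib.subsingleton_HU_affine M n (hDeq ▸ hD : IsAffineOpen D)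
    exact (F.huEquiv D ψ (n + 1)).toEquiv.subsingleton
  obtain ⟨k, hk⟩ := h2 ((F.hhEquiv φ (n + 1)).symm x) (@Subsingleton.elim _ hsub _ _)
  refine ⟨k, ?_⟩
  have h := F.hhEquiv_smul φ (n + 1) (a ^ k) ((F.hhEquiv φ (n + 1)).symm x)
  rw [hk, map_zero, AddEquiv.apply_symm_apply] at h
  exact h.symm

variable [IsDomain A] [IsLocalRing A] [IsNoetherianRing A] [IsIntegrallyClosed A]

/-- A higher class is killed by a power of any element of the maximal ideal. -/
theorem exists_pow_smul_of_mem (hf : ModTorsLib.IsModif X fX) (hdim : ringKrullDim A = 2) (M : X.Modules)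
    [Coh.IsQCoh M] {a : A} (ha : a ∈ maximalIdeal A) (n : ℕ) (x : Coh.HH X M (n + 1)) :
    ∃ k : ℕ, a ^ k • x = 0 := by
  haveI := hf.proper; haveI := hf.integral
  have hp : RatModLib.Mod fX := ⟨hf.proper, hf.birat⟩
  have hd : topologicalKrullDim (Spec (CommRingCat.of A)) ≤ 2 := by
    show topologicalKrullDim (PrimeSpectrum A) ≤ 2
    rw [PrimeSpectrum.topologicalKrullDim_eq_ringKrullDim, hdim]
  obtain ⟨V, hV, -, hc, -⟩ := hp.exists_iso_open (ParaFLib.isNormal_spec A) hd
  refine exists_pow_smul_eq_zero M n a ?_ x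
  have hle : (PrimeSpectrum.basicOpen a : (Spec (CommRingCat.of A)).Opens) ≤ V := fun p hpa => by
    by_contra hpV
    have h1 : p.asIdeal = maximalIdeal A :=
      IsLocalRing.eq_maximalIdeal ((PrimeSpectrum.isClosed_singleton_iff_isMaximal p).1 (hc p hpV))
    exact hpa (h1 ▸ ha)
  haveI := hV
  let W : (Spec (CommRingCat.of A)).Opens := PrimeSpectrum.basicOpen a
  haveI hiso : IsIso (fX ∣_ W) := ModifLib.isIso_restrict_of_le fX hle
  haveI : IsAffine W.toScheme := IsAffineOpen.Spec_basicOpen (R := CommRingCat.of A) a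
  exact IsAffine.of_isIso (fX ∣_ W)

/-- Higher cohomology is torsion. -/
theorem exists_smul_eq_zero (hf : ModTorsLib.IsModif X fX) (hdim : ringKrullDim A = 2) (M : X.Modules)
    [Coh.IsQCoh M] (n : ℕ) (x : Coh.HH X M (n + 1)) : ∃ r : A, r ≠ 0 ∧ r • x = 0 := by
  obtain ⟨c, hcm, hc⟩ : ∃ c ∈ maximalIdeal A, c ≠ 0 := Submodule.exists_mem_ne_zero_of_ne_bot fun h => by
    rw [ringKrullDim_eq_zero_of_isField (isField_iff_maximalIdeal_eq.2 h)] at hdim
    exact absurd hdim (by decide)
  obtain ⟨k, hk⟩ := exists_pow_smul_of_mem hf hdim M hcm n x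
  exact ⟨c ^ k, pow_ne_zero k hc, hk⟩

/-- The first cohomology of the structure sheaf has finite length. -/
theorem isFiniteLength_H1 (hf : ModTorsLib.IsModif X fX) (hdim : ringKrullDim A = 2) :
    IsFiniteLength A (Coh.HH X (Coh.structureModule X) 1) := by
  haveI := hf.proper
  haveI : IsLocallyNoetherian X := LocallyOfFiniteType.isLocallyNoetherian fX
  haveI : Module.Finite A (Coh.HH X (Coh.structureModule X) 1) :=
    Groth.Agent.S0002.result A X _ ParaFLib.isCoh_structure 1
  haveI : Coh.IsQCoh (Coh.structureModule X) := QCohLib.isQCoh_unit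
  have hle : maximalIdeal A ≤ (Module.annihilator A (Coh.HH X (Coh.structureModule X) 1)).radical := fun c hc => by
    classical
    obtain ⟨s, hs⟩ := (Module.Finite.fg_top : (⊤ : Submodule A (Coh.HH X (Coh.structureModule X) 1)).FG)
    choose k hk using fun v : Coh.HH X (Coh.structureModule X) 1 =>
      exists_pow_smul_of_mem hf hdim (Coh.structureModule X) hc 0 v
    refine ⟨s.sup k, Module.mem_annihilator.2 fun v => ?_⟩
    have hv : v ∈ Submodule.span A (s : Set (Coh.HH X (Coh.structureModule X) 1)) := hs ▸ Submodule.mem_top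
    induction hv using Submodule.span_induction with
    | mem w hw =>
      rw [← Nat.sub_add_cancel (Finset.le_sup (f := k) hw), pow_add, mul_smul, hk w, smul_zero]
    | zero => exact smul_zero _
    | add w w' _ _ h h' => rw [smul_add, h, h', add_zero]
    | smul r w _ h => rw [smul_comm, h, smul_zero]
  obtain ⟨k, hk⟩ := Ideal.exists_pow_le_of_le_radical_of_fg hle (IsNoetherian.noetherian _)
  exact DualCxLib.isFiniteLength_of_pow_kill _ fun c hc => Module.mem_annihilator.1 (hk hc)

end TraceGRLib
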