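import Groth.Agent.TraceGRLib.Alg
import Groth.Agent.TraceGRLib.Torsion
import Groth.Agent.TraceGRLib.Gamma
import Groth.Agent.ModTorsLib.HomZero
import Groth.Agent.ProperTraceLib.Basic
import Mathlib

/-!
# The derived direct image of the structure sheaf of a modification, and maps into the twisted inverse image
-/

set_option autoImplicit false
set_option linter.style.haveILetI false
set_option linter.unusedSectionVars false
set_option backward.isDefEq.respectTransparency false
set_option backward.isDefEq.respectTransparency.types false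
set_option maxHeartbeats 2000000
set_option synthInstance.maxHeartbeats 200000

universe u

open CategoryTheory CategoryTheory.Limits CategoryTheory.Pretriangulated AlgebraicGeometry IsLocalRing DerivedCategory
open Groth.Agent Groth.Agent.Dual3Lib
open DTenLib.Point (hH sg)
open Groth.Agent.DualCxLib (shiftL)

attribute [local instance] HasDerivedCategory.standard

noncomputable section

namespace TraceGRLib

variable {A : Type u} [CommRing A] [IsDomain A] [IsLocalRing A] [IsNoetherianRing A] [IsIntegrallyClosed A]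
  [PreservesFiniteLimits (tilde.functor (CommRingCat.of A))]
  {X : Scheme.{u}} [X.Over (Spec (CommRingCat.of A))] [DCoh.HasRpush (X ↘ Spec (CommRingCat.of A))]

local notation "fX" => (X ↘ Spec (CommRingCat.of A))

/-- The structure sheaf in `DQCoh`. -/
abbrev unitQX (X : Scheme.{u}) : DCoh.DQCoh X :=
  ⟨DCoh.inD X (Coh.structureModule X), PerfBaseLib.isQCohD_inD _ QCohLib.isQCoh_unit⟩

theorem vanishing (hf : ModTorsLib.IsModif X fX) (hdim : ringKrullDim A = 2) (F : X.Modules) (hF : Coh.IsQCoh F)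
    (j : ℕ) (hj : 1 < j) : Subsingleton (Coh.HH X F j) := by
  haveI := hf.proper; haveI := hf.integral; haveI := hF
  have hd : topologicalKrullDim (Spec (CommRingCat.of A)) ≤ 2 := by
    show topologicalKrullDim (PrimeSpectrum A) ≤ 2
    rw [PrimeSpectrum.topologicalKrullDim_eq_ringKrullDim, hdim]
  exact FibVanLib.subsingleton_HH_affine fX 1
    (fun s => (RatModLib.Mod.fibre_le_one (p := fX) ⟨hf.proper, hf.birat⟩ hd s)) F j hj

/-- What is needed of the derived direct image of the structure sheaf. -/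
structure PushData where
  /-- The object of the derived category of the ring. -/
  N : Dual.D A
  /-- The identification. -/
  eN : (DCoh.tildeD (CommRingCat.of A)).obj N ≅ (DCoh.Rpush fX).obj (uO X)
  /-- The unit. -/
  a : Dual.inD A A ⟶ N
  bij : ∀ E : DCoh.D X, Function.Bijective fun ψ : uO X ⟶ E =>
    (inDSpecIso.inv ≫ (DCoh.tildeD (CommRingCat.of A)).map a ≫ eN.hom) ≫ (DCoh.Rpush fX).map ψ
  isIso₀ : IsIso ((hH A 0).map a)
  isZero : ∀ i : ℤ, i < 0 ∨ 1 < i → IsZero ((hH A i).obj N)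
  h1 : Nonempty ((hH A 1).obj N ≃ₗ[A] Coh.HH X (Coh.structureModule X) 1)
  socle : Subsingleton ((Dual.inD A (ResidueField A))⟦(-1 : ℤ)⟧ ⟶ N)

theorem exists_pushData (hf : ModTorsLib.IsModif X fX) (hdim : ringKrullDim A = 2)
    (h : DCoh.RpushPreservesQCoh fX) : Nonempty (PushData (A := A) (X := X)) := by
  haveI := hf.proper; haveI := hf.integral
  haveI : EnoughInjectives X.Modules := IsGrothendieckAbelian.enoughInjectives.{u}
  haveI : HasExt.{u} X.Modules := hasExt_of_enoughInjectives.{u} X.Modules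
  obtain ⟨hfull, hfaith, hq⟩ := Groth.Agent.S0997.result (CommRingCat.of A)
  haveI := hfull; haveI := hfaith
  obtain ⟨_, _⟩ := QRlimLib.exists_isTriangulated_rpush fX
  let T := DCoh.tildeD (CommRingCat.of A)
  obtain ⟨N, ⟨eN⟩⟩ := (hq ((DCoh.Rpush fX).obj (uO X))).1
    (h _ (PerfBaseLib.isQCohD_inD _ QCohLib.isQCoh_unit))
  obtain ⟨η, hη⟩ := KoszOrthLib.exists_unit_rpush fX
  obtain ⟨a, ha⟩ := T.map_surjective (inDSpecIso.hom ≫ η ≫ eN.inv)
  have hηa : inDSpecIso.inv ≫ T.map a ≫ eN.hom = η := by rw [ha]; simp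
  have push_smul : ∀ (r : A) (E : DCoh.D X) (y : uO X ⟶ E),
      η ≫ (DCoh.Rpush fX).map ((singleFunctor X.Modules 0).map
        (sMod (Coh.structureModule X) (Coh.toGlobal fX r)) ≫ y) = sO r ≫ η ≫ (DCoh.Rpush fX).map y := fun r E y =>
    (sMod_rpush_comm fX ((Scheme.ΓSpecIso (CommRingCat.of A)).inv.hom r) (Coh.structureModule _)
      (Coh.structureModule X) η y).symm
  -- evaluation in every degree
  let cI : ∀ i : ℤ, (DCoh.Rpush fX).obj ((uO X)⟦i⟧) ≅ T.obj (N⟦i⟧) := fun i =>
    ((DCoh.Rpush fX).commShiftIso i).app (uO X) ≪≫ (shiftFunctor _ i).mapIso eN.symm ≪≫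
      ((T.commShiftIso i).app N).symm
  let Φ : ∀ i : ℤ, (uO X ⟶ (uO X)⟦i⟧) → (homologyFunctor (ModuleCat.{u} A) 0).obj (N⟦i⟧) := fun i y =>
    evS (cI i) (η ≫ (DCoh.Rpush fX).map y)
  have hΦ : ∀ i, Function.Bijective (Φ i) := fun i => (bijective_evS (cI i)).comp (hη _)
  have hΦadd : ∀ i y y', Φ i (y + y') = Φ i y + Φ i y' := fun i y y' => by
    simp only [Φ, Functor.map_add, Preadditive.comp_add, map_add]
  have hΦs : ∀ i (r : A) y, Φ i ((singleFunctor X.Modules 0).map
      (sMod (Coh.structureModule X) (Coh.toGlobal fX r)) ≫ y) = r • Φ i y := fun i r y => by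
    show evS (cI i) _ = r • evS (cI i) _
    rw [push_smul, evS_smul]
  let σ : ∀ i : ℤ, (homologyFunctor (ModuleCat.{u} A) 0).obj (N⟦i⟧) ≅ (hH A i).obj N := fun i =>
    ((homologyFunctor (ModuleCat.{u} A) 0).shiftIso i 0 i (by omega)).app N
  haveI : (uO X).IsLE 0 := inferInstanceAs (((singleFunctor X.Modules 0).obj _).IsLE 0)
  haveI : (uO X).IsGE 0 := inferInstanceAs (((singleFunctor X.Modules 0).obj _).IsGE 0)
  have hzero : ∀ i : ℤ, i < 0 ∨ 1 < i → IsZero ((hH A i).obj N) := by
    intro i hi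
    refine (ModuleCat.isZero_iff_subsingleton.2 ?_).of_iso (σ i).symm
    have hsub : Subsingleton (uO X ⟶ (uO X)⟦i⟧) := by
      rcases hi with hi | hi
      · haveI : ((uO X)⟦i⟧).IsGE (-i) := TStructure.t.isGE_shift (uO X) 0 i (-i) (by omega)
        exact ⟨fun p q => (TStructure.t.zero p 0 (-i) (by omega)).trans (TStructure.t.zero q 0 (-i) (by omega)).symm⟩
      · obtain ⟨k, rfl⟩ := Int.eq_ofNat_of_zero_le (show (0 : ℤ) ≤ i by omega)
        haveI : Subsingleton (Coh.HH X (Coh.structureModule X) k) :=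
          vanishing hf hdim _ QCohLib.isQCoh_unit k (by omega)
        exact subsingleton_hom_KX _ k
    exact (Equiv.ofBijective _ (hΦ i)).symm.subsingleton
  -- degree zero
  have hend : ∀ y : uO X ⟶ uO X, ∃ r : A, y = (singleFunctor X.Modules 0).map
      (sMod (Coh.structureModule X) (Coh.toGlobal fX r)) := fun y => by
    obtain ⟨ψ, rfl⟩ := (singleFunctor X.Modules 0).map_surjective y
    obtain ⟨r, hr⟩ := (ModTorsLib.toGlobal_bijective hf).2 (CohCmpLib.endVal ψ)
    refine ⟨r, congrArg _ (CohCmpLib.endVal.injective ?_)⟩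
    rw [← hr]
    exact (endVal_sMod (Coh.toGlobal fX r)).symm
  let v : (homologyFunctor (ModuleCat.{u} A) 0).obj N := evS eN.symm η
  have hv : ev1 N a = v := by
    show _ = evS eN.symm η
    rw [← hηa]
    exact (evS_map eN.symm a).symm
  have hbij0 : Function.Bijective fun r : A => r • v := by
    have hs : ∀ r : A, r • v = evS eN.symm (η ≫ (DCoh.Rpush fX).map ((singleFunctor X.Modules 0).map
        (sMod (Coh.structureModule X) (Coh.toGlobal fX r)))) := fun r => by
      have h1 := push_smul r (uO X) (𝟙 _)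
      simp only [CategoryTheory.Functor.map_id, Category.comp_id] at h1
      rw [h1, evS_smul]
    constructor
    · intro r r' hrr
      simp only [hs] at hrr
      have h2 := (hη _).1 ((bijective_evS eN.symm).1 hrr)
      exact (ModTorsLib.toGlobal_bijective hf).1 ((endVal_sMod _).symm.trans ((congrArg CohCmpLib.endVal
        ((singleFunctor X.Modules 0).map_injective h2)).trans (endVal_sMod _)))
    · intro z
      obtain ⟨g, rfl⟩ := (bijective_evS eN.symm).2 z
      obtain ⟨y, rfl⟩ := (hη _).2 g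
      obtain ⟨r, rfl⟩ := hend y
      exact ⟨r, hs r⟩
  have hiso₀ : IsIso ((hH A 0).map a) := by
    rw [ConcreteCategory.isIso_iff_bijective]
    let s := (singleFunctorCompHomologyFunctorIso (ModuleCat.{u} A) 0).app (ModuleCat.of A A)
    have key : ∀ r : A, ((hH A 0).map a).hom (s.inv.hom r) = r • v := fun r => by
      rw [← hv]
      show (DCompLib.evH0 (ModuleCat.of A A) N a).hom r = r • (DCompLib.evH0 (ModuleCat.of A A) N a).hom 1
      rw [← map_smul]
      exact congrArg _ (mul_one r).symm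
    refine (Function.Bijective.of_comp_iff _ (ConcreteCategory.bijective_of_isIso s.inv)).1 ?_
    show Function.Bijective fun r : A => ((hH A 0).map a).hom (s.inv.hom r)
    rw [funext key]
    exact hbij0
  -- degree one
  let e₁ : Coh.HH X (Coh.structureModule X) 1 → (hH A 1).obj N := fun x =>
    (σ 1).hom.hom (Φ 1 ((toY (Coh.structureModule X) 1).symm x))
  have he₁ : Function.Bijective e₁ :=
    (ConcreteCategory.bijective_of_isIso (σ 1).hom).comp ((hΦ 1).comp (toY (Coh.structureModule X) 1).symm.bijective)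
  let L : Coh.HH X (Coh.structureModule X) 1 →ₗ[A] (hH A 1).obj N :=
    { toFun := e₁
      map_add' := fun x x' => by
        show (σ 1).hom.hom (Φ 1 _) = (σ 1).hom.hom (Φ 1 _) + (σ 1).hom.hom (Φ 1 _)
        rw [← map_add]
        refine congrArg _ ?_
        rw [← hΦadd, map_add]
      map_smul' := fun r x => by
        show (σ 1).hom.hom (Φ 1 _) = r • (σ 1).hom.hom (Φ 1 _)
        rw [← map_smul]
        refine congrArg _ ?_
        have : (toY (Coh.structureModule X) 1).symm (r • x) = (singleFunctor X.Modules 0).map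
            (sMod (Coh.structureModule X) (Coh.toGlobal fX r)) ≫ (toY (Coh.structureModule X) 1).symm x := by
          rw [AddEquiv.symm_apply_eq, toY_smul, AddEquiv.apply_symm_apply]
          rfl
        rw [this]
        exact hΦs 1 r _ }
  -- no maps from the residue field
  have hsoc : Subsingleton ((Dual.inD A (ResidueField A))⟦(-1 : ℤ)⟧ ⟶ N) := by
    refine ⟨fun p q => T.map_injective ?_⟩
    rw [← cancel_epi ((T.commShiftIso (-1 : ℤ)).app (Dual.inD A (ResidueField A))).inv, ← cancel_mono eN.hom]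
    exact (ModTorsLib.hom_shift_residue_eq_zero hdim fX hf).elim _ _
  exact ⟨{ N := N, eN := eN, a := a, bij := fun E => by rw [hηa]; exact hη E, isIso₀ := hiso₀, isZero := hzero,
           h1 := ⟨(LinearEquiv.ofBijective L he₁).symm⟩, socle := hsoc }⟩
where
  endVal_sMod {X : Scheme.{u}} (b : Γ(X, ⊤)) : CohCmpLib.endVal (sMod (Coh.structureModule X) b) = b := by
    show (sMod (Coh.structureModule X) b).app ⊤ (show Γ(Coh.structureModule X, ⊤) from (1 : Γ(X, ⊤))) = b
    refine Eq.trans (show _ = (show Γ(X, ⊤) from X.presheaf.map (homOfLE (le_top : (⊤ : X.Opens) ≤ ⊤)).op b) *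
      (1 : Γ(X, ⊤)) from rfl) ?_
    rw [mul_one]
    change X.presheaf.map (𝟙 (Opposite.op ⊤)) b = b
    rw [CategoryTheory.Functor.map_id]
    rfl

variable {ωA : Type u} [AddCommGroup ωA] [Module A ωA] (hω : Dual.IsDualizing A (Dual.inD A ωA))
  (hf : ModTorsLib.IsModif X (X ↘ Spec (CommRingCat.of A))) (hdim : ringKrullDim A = 2)
  (h : DCoh.RpushPreservesQCoh (X ↘ Spec (CommRingCat.of A))) [DCoh.HasShriek (X ↘ Spec (CommRingCat.of A)) h]
  (W : DCoh.DQCoh (Spec (CommRingCat.of A)))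
  (eW : W.obj ≅ (DCoh.tildeD (CommRingCat.of A)).obj (Dual.inD A ωA))

include hω hf hdim eW in
/-- The twisted inverse image of the dualizing module lives in nonnegative degrees. -/
theorem isGE_shriek : ((DCoh.shriek fX h).obj W).obj.IsGE 0 := by
  haveI := hf.proper; haveI := hf.integral
  haveI : (Dual.inD A ωA).IsGE 0 := inferInstanceAs (((singleFunctor (ModuleCat.{u} A) 0).obj _).IsGE 0)
  haveI : ((tilde.functor (CommRingCat.of A) ⋙ singleFunctor (Spec (CommRingCat.of A)).Modules 0).obj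
      (ModuleCat.of A ωA)).IsGE 0 := inferInstanceAs (((singleFunctor (Spec (CommRingCat.of A)).Modules 0).obj
        ((tilde.functor (CommRingCat.of A)).obj (ModuleCat.of A ωA))).IsGE 0)
  haveI : W.obj.IsGE 0 := TStructure.t.isGE_of_iso
    (eW ≪≫ ((tilde.functor (CommRingCat.of A)).mapDerivedCategorySingleFunctor 0).app (ModuleCat.of A ωA)).symm 0
  have hge := ProperTraceLib.isGE_rightAdjoint_of_vanishing h _ (DCoh.shriekAdj fX h) W eW 0 1
    (fun F hF j hj => vanishing hf hdim F hF j hj)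
  obtain ⟨t, ht⟩ := Dual3Lib.exists_trace h _ (DCoh.shriekAdj fX h) 1 0 (-1) (by norm_num) W eW
    (by simpa using hge)
  let β : (homologyFunctor (ModuleCat.{u} A) 0).obj (Dual.inD A ωA) ≃ₗ[A] ωA :=
    ((singleFunctorCompHomologyFunctorIso (ModuleCat.{u} A) 0).app (ModuleCat.of A ωA)).toLinearEquiv
  have hz : ∀ (F : X.Modules), Coh.IsQCoh F → ∀ (ψ : Coh.HH X F 1 →ₗ[A]
      (homologyFunctor (ModuleCat.{u} A) 0).obj (Dual.inD A ωA)) x, ψ x = 0 := fun F hF ψ x => by
    haveI := hF
    obtain ⟨r, hr, hrx⟩ := exists_smul_eq_zero hf hdim F 0 x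
    apply β.injective
    rw [map_zero]
    refine (isSMulRegular_iff_right_eq_zero_of_smul.1 (isSMulRegular_dualizing hω hdim hr)) _ ?_
    rw [← map_smul, ← map_smul, hrx, map_zero, map_zero]
  have hG : Coh.IsQCoh (DCoh.HD ((DCoh.shriek fX h).obj W).obj (-1)) := ((DCoh.shriek fX h).obj W).property _
  obtain ⟨φ, -, huniq⟩ := ht _ hG (fun j hj => vanishing hf hdim _ hG j hj) 0
  have h0 : IsZero (DCoh.HD ((DCoh.shriek fX h).obj W).obj (-1)) := (IsZero.iff_id_eq_zero _).2
    ((huniq (𝟙 _) fun x => (hz _ hG t _).symm).trans (huniq 0 fun x => (hz _ hG t _).symm).symm)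
  refine (DerivedCategory.isGE_iff _ _).2 fun i hi => ?_
  rcases eq_or_ne i (-1) with rfl | hne
  · exact h0
  · haveI : ((DCoh.shriek fX h).obj W).obj.IsGE (-1) := by simpa using hge
    exact isZero_of_isGE _ (-1) i (by omega)

/-- Composition with the trace, on maps out of the structure sheaf. -/
theorem bijective_trace_comp (Z : DCoh.DQCoh X) :
    Function.Bijective fun ψ : Z.obj ⟶ ((DCoh.shriek fX h).obj W).obj =>
      ((DCoh.Rpush fX).map ψ ≫ ((DCoh.trace fX h).app W).hom :
        (DCoh.Rpush fX).obj Z.obj ⟶ W.obj) := by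
  let e := (DCoh.shriekAdj fX h).homEquiv Z W
  constructor
  · intro ψ ψ' hψ
    have := e.symm.injective (a₁ := ObjectProperty.homMk ψ) (a₂ := ObjectProperty.homMk ψ') (by
      rw [Adjunction.homEquiv_counit, Adjunction.homEquiv_counit]
      exact ObjectProperty.hom_ext _ hψ)
    exact congrArg (fun k => k.hom) this
  · intro u
    refine ⟨(e (ObjectProperty.homMk u)).hom, ?_⟩
    have := e.symm_apply_apply (ObjectProperty.homMk u)
    rw [Adjunction.homEquiv_counit] at this
    exact congrArg (fun k => k.hom) this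

include hω hf hdim eW in
/-- Vanishing downstairs gives vanishing upstairs. -/
theorem subsingleton_H1_dualizing (D : PushData (A := A) (X := X))
    (hN : Subsingleton (D.N ⟶ (Dual.inD A ωA)⟦(1 : ℤ)⟧)) :
    Subsingleton (Coh.HH X (DCoh.dualizingMod fX h W 0) 1) := by
  haveI := hf.proper; haveI := hf.integral
  haveI : EnoughInjectives X.Modules := IsGrothendieckAbelian.enoughInjectives.{u}
  haveI : HasExt.{u} X.Modules := hasExt_of_enoughInjectives.{u} X.Modules
  obtain ⟨hfull, hfaith, -⟩ := Groth.Agent.S0997.result (CommRingCat.of A)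
  haveI := hfull; haveI := hfaith
  obtain ⟨_, _⟩ := QRlimLib.exists_isTriangulated_rpush fX
  let T := DCoh.tildeD (CommRingCat.of A)
  let B := (DCoh.shriek fX h).obj W
  haveI hB : B.obj.IsGE 0 := isGE_shriek hω hf hdim h W eW
  -- vanishing in the shift
  have h1 : Subsingleton (uO X ⟶ B.obj⟦(1 : ℤ)⟧) := by
    let Z : DCoh.DQCoh X := (unitQX X)⟦(-1 : ℤ)⟧
    let c : Z.obj ≅ (uO X)⟦(-1 : ℤ)⟧ := ((DCoh.IsQCohD (X := X)).ι.commShiftIso (-1 : ℤ)).app (unitQX X)
    let d : (DCoh.Rpush fX).obj Z.obj ≅ T.obj (D.N⟦(-1 : ℤ)⟧) :=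
      (DCoh.Rpush fX).mapIso c ≪≫ ((DCoh.Rpush fX).commShiftIso (-1 : ℤ)).app (uO X) ≪≫
        (shiftFunctor _ (-1 : ℤ)).mapIso D.eN.symm ≪≫ ((T.commShiftIso (-1 : ℤ)).app D.N).symm
    haveI : Subsingleton (D.N⟦(-1 : ℤ)⟧ ⟶ Dual.inD A ωA) :=
      (shiftL D.N (Dual.inD A ωA) 1).toEquiv.subsingleton_congr.2 hN
    haveI : Subsingleton ((DCoh.Rpush fX).obj Z.obj ⟶ W.obj) := ⟨fun p q => by
      obtain ⟨p', hp'⟩ := T.map_surjective (d.inv ≫ p ≫ eW.hom)
      obtain ⟨q', hq'⟩ := T.map_surjective (d.inv ≫ q ≫ eW.hom)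
      rw [Subsingleton.elim p' q', hq', cancel_epi, cancel_mono] at hp'
      exact hp'.symm⟩
    haveI : Subsingleton (Z.obj ⟶ B.obj) := ⟨fun p q =>
      (bijective_trace_comp h W Z).1 (Subsingleton.elim _ _)⟩
    refine ⟨fun p q => (shiftFunctor (DCoh.D X) (-1 : ℤ)).map_injective ?_⟩
    rw [← cancel_epi c.hom, ← cancel_mono
      ((shiftFunctorCompIsoId (DCoh.D X) (1 : ℤ) (-1) (by norm_num)).app B.obj).hom]
    exact Subsingleton.elim (α := Z.obj ⟶ B.obj) _ _
  -- truncation
  let t := DerivedCategory.TStructure.t (C := X.Modules)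
  let T₀ := (t.triangleLTGE 1).obj B.obj
  have hT₀ : T₀ ∈ distTriang _ := t.triangleLTGE_distinguished 1 B.obj
  haveI : T₀.obj₁.IsLE 0 := t.isLE_truncLT_obj B.obj 1 0 (by norm_num)
  haveI : T₀.obj₁.IsGE 0 := (DerivedCategory.isGE_iff _ _).2 fun i hi => by
    haveI := DerLib.Ghost.isIso_homologyMap_truncLTι B.obj 1 i (by omega)
    exact (isZero_of_isGE B.obj 0 i hi).of_iso (asIso ((homologyFunctor X.Modules i).map ((t.truncLTι 1).app B.obj)))
  obtain ⟨e₁⟩ := DerLib.Devissage.nonempty_iso_single T₀.obj₁ 0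
  haveI := DerLib.Ghost.isIso_homologyMap_truncLTι B.obj 1 0 (by norm_num)
  let G := DCoh.dualizingMod fX h W 0
  let e : T₀.obj₁ ≅ DCoh.inD X G := e₁ ≪≫ (singleFunctor X.Modules 0).mapIso
    (asIso ((homologyFunctor X.Modules 0).map ((t.truncLTι 1).app B.obj)) : _ ≅ G)
  haveI : T₀.obj₃.IsGE 1 := inferInstanceAs (t.IsGE _ 1)
  haveI : (uO X).IsLE 0 := inferInstanceAs (((singleFunctor X.Modules 0).obj _).IsLE 0)
  have key : ∀ y : uO X ⟶ T₀.obj₁⟦(1 : ℤ)⟧, y = 0 := fun y => by
    obtain ⟨z, rfl⟩ := Triangle.coyoneda_exact₁ T₀ hT₀ y (Subsingleton.elim (α := uO X ⟶ B.obj⟦(1 : ℤ)⟧) _ _)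
    rw [show z = 0 from t.zero (z : uO X ⟶ T₀.obj₃) 0 1 (by norm_num), zero_comp]
  haveI : Subsingleton (uO X ⟶ KX G 1) := ⟨fun p q => by
    rw [← cancel_mono ((shiftFunctor (DCoh.D X) (1 : ℤ)).mapIso e).inv]
    exact (key _).trans (key _).symm⟩
  exact (toY G 1).symm.toEquiv.subsingleton

/-- Maps out of the structure sheaf into the direct image, composed with the trace. -/
theorem exists_hom_of_pushData (D : PushData (A := A) (X := X)) :
    ∀ g : uO (Spec (CommRingCat.of A)) ⟶ (DCoh.Rpush fX).obj ((DCoh.shriek fX h).obj W).obj,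
      ∃ ψ : uO X ⟶ ((DCoh.shriek fX h).obj W).obj,
        g = (inDSpecIso.inv ≫ (DCoh.tildeD (CommRingCat.of A)).map D.a ≫ D.eN.hom) ≫ (DCoh.Rpush fX).map ψ :=
  fun g => (D.bij _).2 g |>.imp fun _ h => h.symm

include eW in
/-- Everything that extends is a trace. -/
theorem exists_trace_preimage (D : PushData (A := A) (X := X)) (t : D.N ⟶ Dual.inD A ωA) :
    ∃ g : uO (Spec (CommRingCat.of A)) ⟶ (DCoh.Rpush fX).obj ((DCoh.shriek fX h).obj W).obj,
      g ≫ ((DCoh.trace fX h).app W).hom =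
        inDSpecIso.inv ≫ (DCoh.tildeD (CommRingCat.of A)).map (D.a ≫ t) ≫ eW.inv := by
  obtain ⟨ψ, hψ⟩ := (bijective_trace_comp h W (unitQX X)).2
    (D.eN.inv ≫ (DCoh.tildeD (CommRingCat.of A)).map t ≫ eW.inv)
  refine ⟨(inDSpecIso.inv ≫ (DCoh.tildeD (CommRingCat.of A)).map D.a ≫ D.eN.hom) ≫ (DCoh.Rpush fX).map ψ, ?_⟩
  simp only at hψ
  erw [Category.assoc, hψ]
  simp

include eW in
/-- A trace extends. -/
theorem exists_of_trace (D : PushData (A := A) (X := X))
    (g : uO (Spec (CommRingCat.of A)) ⟶ (DCoh.Rpush fX).obj ((DCoh.shriek fX h).obj W).obj) :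
    ∃ t : D.N ⟶ Dual.inD A ωA, g ≫ ((DCoh.trace fX h).app W).hom =
      inDSpecIso.inv ≫ (DCoh.tildeD (CommRingCat.of A)).map (D.a ≫ t) ≫ eW.inv := by
  obtain ⟨ψ, rfl⟩ := exists_hom_of_pushData h W D g
  obtain ⟨t, ht⟩ := (Groth.Agent.S0997.result (CommRingCat.of A)).1.map_surjective
    (D.eN.hom ≫ ((DCoh.Rpush fX).map ψ ≫ ((DCoh.trace fX h).app W).hom) ≫ eW.hom)
  refine ⟨t, ?_⟩
  rw [Functor.map_comp, ht]
  simp

include eW in
/-- When the unit is invertible so is composition with the trace. -/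
theorem bijective_comp_trace (D : PushData (A := A) (X := X)) [IsIso D.a] :
    Function.Bijective fun g : uO (Spec (CommRingCat.of A)) ⟶
        (DCoh.Rpush fX).obj ((DCoh.shriek fX h).obj W).obj => g ≫ ((DCoh.trace fX h).app W).hom := by
  constructor
  · intro g g' hgg
    obtain ⟨ψ, rfl⟩ := exists_hom_of_pushData h W D g
    obtain ⟨ψ', rfl⟩ := exists_hom_of_pushData h W D g'
    have h1 : (DCoh.Rpush fX).map ψ ≫ ((DCoh.trace fX h).app W).hom =
        (DCoh.Rpush fX).map ψ' ≫ ((DCoh.trace fX h).app W).hom := by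
      rw [← cancel_epi (inDSpecIso.inv ≫ (DCoh.tildeD (CommRingCat.of A)).map D.a ≫ D.eN.hom)]
      simpa only [Category.assoc] using hgg
    rw [(bijective_trace_comp h W (unitQX X)).1 h1]
  · intro u
    obtain ⟨s, hs⟩ := (Groth.Agent.S0997.result (CommRingCat.of A)).1.map_surjective
      (inDSpecIso.hom ≫ u ≫ eW.hom)
    obtain ⟨g, hg⟩ := exists_trace_preimage h W eW D (inv D.a ≫ s)
    refine ⟨g, hg.trans ?_⟩
    rw [IsIso.hom_inv_id_assoc, hs]
    simp

end TraceGRLib
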